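import Cfsg.Agent.Lib.Small.E6Three.Bits

/-!
Vectors over a field with an element `w`, `w ^ 2 = w + 1`, of characteristic two, given by pairs of bit
planes, with the action of term lists and of column lists on them.
-/

set_option autoImplicit false

namespace Cfsg.Agent.Small.E6Fi22

open Cfsg.Lie Cfsg.Agent.Lie Matrix Cfsg.Agent.Small.E6Three

/-- The code of a pair of bits. -/
def toC (x y : Bool) : ℕ := bif x then (bif y then 3 else 1) else (bif y then 2 else 0)

/-- Multiplication of codes. -/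
def fmul (c d : ℕ) : ℕ :=
  toC ((bitB c 0 && bitB d 0) != (bitB c 1 && bitB d 1))
    (((bitB c 0 && bitB d 1) != (bitB c 1 && bitB d 0)) != (bitB c 1 && bitB d 1))

/-- Powers of codes. -/
def cpow (c : ℕ) : ℕ → ℕ
  | 0 => 1
  | n + 1 => fmul c (cpow c n)

/-- The code at a position of a pair of planes. -/
def codeAt (v : ℕ × ℕ) (i : ℕ) : ℕ := toC (bitB v.1 i) (bitB v.2 i)

/-- A pair of planes with one code at one position. -/
def put (c i : ℕ) : ℕ × ℕ := (bif bitB c 0 then 2 ^ i else 0, bif bitB c 1 then 2 ^ i else 0)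

/-- Sum of two pairs of planes. -/
def pxor (v w : ℕ × ℕ) : ℕ × ℕ := (Nat.xor v.1 w.1, Nat.xor v.2 w.2)

/-- A code times a pair of planes. -/
def sAp (c : ℕ) (v : ℕ × ℕ) : ℕ × ℕ :=
  ((bif bitB c 0 then v.1 else 0) ^^^ (bif bitB c 1 then v.2 else 0),
    ((bif bitB c 0 then v.2 else 0) ^^^ (bif bitB c 1 then v.1 ^^^ v.2 else 0)))

/-- The image of a pair of planes under a list of triples. -/
def tApC : List (ℕ × ℕ × ℕ) → ℕ × ℕ → ℕ × ℕ
  | [], _ => (0, 0)
  | m :: L, v => pxor (put (fmul m.2.2 (codeAt v m.2.1)) m.1) (tApC L v)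

/-- The image of a pair of planes under a list of columns. -/
def apC : List (ℕ × ℕ) → ℕ × ℕ → ℕ × ℕ
  | [], _ => (0, 0)
  | a :: L, v => pxor (sAp (codeAt v 0) a) (apC L (v.1 >>> 1, v.2 >>> 1))

/-- The triples of a root element at a code. -/
def trs (D : ChevalleyDatum) (r c : ℕ) : List (ℕ × ℕ × ℕ) :=
  ((ent D r).filter fun m => oddC m.c).map fun m => (m.row, m.col, cpow c m.a)

variable {D : ChevalleyDatum} {K : Type*} [Field K] (w : K)

/-- The value of a code. -/
def val (c : ℕ) : K := (if bitB c 0 then 1 else 0) + (if bitB c 1 then w else 0)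

variable (D) in
/-- The vector of a pair of planes. -/
def vec4 (v : ℕ × ℕ) : D.Idx → K := E6Three.vec D K v.1 + w • E6Three.vec D K v.2

theorem code_bits : bitB 0 0 = false ∧ bitB 0 1 = false ∧ bitB 1 0 = true ∧ bitB 1 1 = false ∧
    bitB 2 0 = false ∧ bitB 2 1 = true ∧ bitB 3 0 = true ∧ bitB 3 1 = true := by decide

theorem val_toC (x y : Bool) : val w (toC x y) = (if x then 1 else 0) + (if y then w else 0) := by
  cases x <;> cases y <;> simp [val, toC, code_bits]

theorem val_one : val w 1 = (1 : K) := by simp [val, code_bits]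

theorem val_two : val w 2 = w := by simp [val, code_bits]

theorem val_three : val w 3 = 1 + w := by simp [val, code_bits]

theorem vec4_apply (v : ℕ × ℕ) (p : D.Idx) : vec4 D w v p = val w (codeAt v (idxEquiv D p)) := by
  rw [codeAt, val_toC]
  simp [vec4, E6Three.vec]

theorem vec4_zero : vec4 D w ((0, 0) : ℕ × ℕ) = 0 := by simp [vec4, vec_zero]

variable [CharP K 2]

theorem vec4_pxor (u v : ℕ × ℕ) : vec4 D w (pxor u v) = vec4 D w u + vec4 D w v := by
  show E6Three.vec D K (u.1 ^^^ v.1) + w • E6Three.vec D K (u.2 ^^^ v.2) = _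
  rw [vec_xor, vec_xor, vec4, vec4, smul_add]
  abel

theorem vec4_put (c i : ℕ) (p : D.Idx) :
    vec4 D w (put c i) p = if (idxEquiv D p : ℕ) = i then val w c else 0 := by
  simp only [put, vec4, val, Pi.add_apply, Pi.smul_apply, smul_eq_mul]
  cases bitB c 0 <;> cases bitB c 1 <;> simp [vec_zero, vec_pow] <;> split_ifs <;> simp

theorem vec4_unit (p : D.Idx) : vec4 D w (2 ^ (idxEquiv D p : ℕ), 0) = Pi.single p 1 := by
  simp [vec4, vec_zero, vec_single]

variable {w} (hw : w ^ 2 = w + 1)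
include hw

theorem val_fmul (c d : ℕ) : val w (fmul c d) = val w c * val w d := by
  have h2 : (2 : K) = 0 := CharTwo.two_eq_zero
  rw [fmul, val_toC]
  simp only [val]
  cases bitB c 0 <;> cases bitB c 1 <;> cases bitB d 0 <;> cases bitB d 1 <;>
    simp <;> grind

theorem val_cpow (c : ℕ) : ∀ n, val w (cpow c n) = val w c ^ n
  | 0 => by rw [cpow, val_one, pow_zero]
  | n + 1 => by rw [cpow, val_fmul hw, val_cpow c n, pow_succ']

theorem vec4_sAp (c : ℕ) (v : ℕ × ℕ) : vec4 D w (sAp c v) = val w c • vec4 D w v := by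
  funext p
  simp only [sAp, vec4, val, Pi.add_apply, Pi.smul_apply, smul_eq_mul, vec_xor]
  cases bitB c 0 <;> cases bitB c 1 <;> simp [vec_zero, vec_xor] <;> grind

omit hw [CharP K 2] in
theorem mulVec_eq_sum (A : Matrix D.Idx D.Idx K) (x : D.Idx → K) :
    A *ᵥ x = ∑ q, x q • (A *ᵥ Pi.single q 1) := by
  funext p
  simp [Matrix.mulVec, dotProduct, Matrix.mulVec_single, mul_comm]

theorem tm_mulVec4 (m : ℕ × ℕ × ℕ) (hm : m.2.1 < D.rank + D.nroots) (v : ℕ × ℕ) :
    (val w m.2.2 • matUnit (idxEquiv D) (R := K) m.1 m.2.1) *ᵥ vec4 D w v =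
      vec4 D w (put (fmul m.2.2 (codeAt v m.2.1)) m.1) := by
  funext p
  rw [vec4_put, val_fmul hw, Matrix.smul_mulVec, Pi.smul_apply, Matrix.mulVec, dotProduct,
    Finset.sum_eq_single ((idxEquiv D).symm ⟨m.2.1, hm⟩)]
  · simp only [matUnit_apply, vec4_apply, Equiv.apply_symm_apply, and_true, smul_eq_mul]
    split_ifs <;> simp
  · intro q _ hq
    rw [matUnit_apply, if_neg, zero_mul]
    rintro ⟨-, h⟩
    exact hq ((idxEquiv D).injective (Fin.ext (by simp [h])))
  · simp

/-- The matrix of a list of triples. -/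
noncomputable def tMat (D : ChevalleyDatum) {K : Type*} [Field K] (w : K) : List (ℕ × ℕ × ℕ) → Matrix D.Idx D.Idx K
  | [] => 0
  | m :: L => val w m.2.2 • matUnit (idxEquiv D) (R := K) m.1 m.2.1 + tMat D w L

theorem tMat_mulVec : ∀ (L : List (ℕ × ℕ × ℕ)), (∀ m ∈ L, m.2.1 < D.rank + D.nroots) → ∀ v : ℕ × ℕ,
    tMat D w L *ᵥ vec4 D w v = vec4 D w (tApC L v)
  | [], _, v => by simp [tMat, tApC, vec4_zero]
  | m :: L, h, v => by
    rw [tMat, Matrix.add_mulVec, tm_mulVec4 hw m (h m List.mem_cons_self),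
      tMat_mulVec L (fun x hx => h x (List.mem_cons_of_mem _ hx)) v, tApC, vec4_pxor]

theorem ev_trs (c : ℕ) : ∀ (L : List Tm),
    ev D K (val w c) 1 L = tMat D w ((L.filter fun m => oddC m.c).map fun m => (m.row, m.col, cpow c m.a))
  | [] => by simp [ev, tMat]
  | m :: L => by
    rw [ev, evL_cons, show evL (idxEquiv D) (val w c) 1 L = ev D K (val w c) 1 L from rfl, ev_trs c L,
      List.filter_cons]
    cases h : oddC m.c
    · simp [Tm.ev, oddC_cast, h]
    · simp [Tm.ev, oddC_cast, h, tMat, val_cpow hw]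

theorem x_mulVec4 (r c : ℕ) (h : fitsD D (ent D r) = true) (v : ℕ × ℕ) :
    D.x K r (val w c) *ᵥ vec4 D w v = vec4 D w (pxor v (tApC (trs D r c) v)) := by
  rw [x_eq D K r (val w c) 1, Matrix.add_mulVec, Matrix.one_mulVec, ev_trs hw, vec4_pxor,
    show ((ent D r).filter fun m => oddC m.c).map (fun m => (m.row, m.col, cpow c m.a)) = trs D r c from rfl,
    tMat_mulVec hw]
  intro m hm
  obtain ⟨n, hn, rfl⟩ := List.mem_map.1 hm
  exact (fitsD_col D h).1 n (List.mem_of_mem_filter hn)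

theorem apC_mulVec (A : Matrix D.Idx D.Idx K) (L : List (ℕ × ℕ)) (hlen : L.length = D.rank + D.nroots)
    (hA : ∀ i, i < D.rank + D.nroots → A *ᵥ vec4 D w (2 ^ i, 0) = vec4 D w (L.getD i (0, 0))) (v : ℕ × ℕ) :
    A *ᵥ vec4 D w v = vec4 D w (apC L v) := by
  have key : ∀ (M : List (ℕ × ℕ)) (u : ℕ × ℕ), vec4 D w (apC M u) =
      ∑ j : Fin M.length, val w (codeAt u j) • vec4 D w (M.getD j (0, 0)) := by
    intro M
    induction M with
    | nil => intro u; simp [apC, vec4_zero]
    | cons a M ih =>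
      intro u
      rw [apC, vec4_pxor, vec4_sAp hw, ih]
      refine Eq.trans ?_ (Fin.sum_univ_succ (n := M.length) fun j => val w (codeAt u j) •
        vec4 D w ((a :: M).getD j (0, 0))).symm
      congr 1
      refine Finset.sum_congr rfl fun j _ => ?_
      simp [codeAt, bitB_eq, Nat.testBit_shiftRight, add_comm]
  rw [key, mulVec_eq_sum, ← Equiv.sum_comp (idxEquiv D).symm]
  refine (Equiv.sum_comp (finCongr hlen) fun q : Fin (D.rank + D.nroots) =>
    vec4 D w v ((idxEquiv D).symm q) • (A *ᵥ Pi.single ((idxEquiv D).symm q) 1)).symm.trans ?_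
  refine Finset.sum_congr rfl fun j _ => ?_
  rw [← vec4_unit (w := w), Equiv.apply_symm_apply, hA _ (Fin.isLt _), vec4_apply, Equiv.apply_symm_apply]
  simp

omit hw in
theorem ext_of_units4 {A B : Matrix D.Idx D.Idx K}
    (h : ∀ i, i < D.rank + D.nroots → A *ᵥ vec4 D w (2 ^ i, 0) = B *ᵥ vec4 D w (2 ^ i, 0)) : A = B := by
  refine ext_of_units D K fun i hi => ?_
  simpa [vec4, vec_zero] using h i hi

end Cfsg.Agent.Small.E6Fi22
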