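import Cfsg.Agent.Lib.Small.E6Fi22.Pack
import Cfsg.Agent.Lib.Small.E6Fi22.Data
import Cfsg.Agent.Lib.Lie.AllFacts
import Cfsg.Agent.Lib.Spor.Fi22Pres

/-!
Kernel checks of the certificates for Fi22 in the twisted group of type E6 over four elements.
-/

set_option autoImplicit false
set_option maxRecDepth 100000

namespace Cfsg.Agent.Small.E6Fi22

open Cfsg.Lie Cfsg.Agent.Lie Cfsg.Agent.Small.E6Three Cfsg.Agent.Spor

/-- Equality of pairs. -/
def peq (u v : ℕ × ℕ) : Bool := Nat.beq u.1 v.1 && Nat.beq u.2 v.2

/-- The root elements of a generator, as indices. -/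
def rootIx (x : ℕ) : List ℕ := (gw.getD x []).flatMap fun l => lets.getD l []

/-- The image under a root element given by its index. -/
def kAp (k : ℕ) (v : ℕ × ℕ) : ℕ × ℕ := pxor v (tApC (tab.getD k []) v)

/-- The root elements fit and have the stored triples. -/
def okTab : Bool :=
  (pairs.all fun p => fitsD chevE6 (ent chevE6 p.1)) &&
    (pairs.map fun p => trs chevE6 p.1 p.2) == tab

/-- The shape of one letter as a generating word of the twisted group. -/
def okLetter (l : List ℕ) : Bool :=
  match l with
  | [k] => [(46, 1), (25, 1), (39, 1), (32, 1)].any (fun p => p == pairs.getD k (0, 0)) && Nat.blt k 20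
  | [k, m] => [(56, 36), (15, 35), (42, 37), (29, 34)].any (fun p =>
      p == ((pairs.getD k (0, 0)).1, (pairs.getD m (0, 0)).1)) &&
      Nat.beq (pairs.getD m (0, 0)).2 (fmul (pairs.getD k (0, 0)).2 (pairs.getD k (0, 0)).2) &&
      Nat.blt k 20 && Nat.blt m 20
  | _ => false

/-- All letters are generating words. -/
def okLetters : Bool :=
  (lets.all okLetter) && gw.all fun w => w.all fun l => Nat.blt l 12

/-- The packed root elements are right. -/
def okRootM : Bool :=
  Nat.beq stride (strideN 78) && (List.range 20).all fun k => (List.range 78).all fun j =>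
    peq (kAp k (2 ^ j, 0)) (pl (col j (rootM.getD k 0)))

/-- The product of packed matrices. -/
def mulM (A B : ℕ) : ℕ := mulAux stride A B 78

/-- The packed generators are right and agree with the columns. -/
def okGens : Bool :=
  (List.range 78).all (fun j => peq (pl (col j oneM)) (2 ^ j, 0)) && (List.range 9).all fun x =>
    Nat.beq ((rootIx x).foldr (fun k A => mulM (rootM.getD k 0) A) oneM) (genM.getD x 0) &&
      (Nat.beq (cols.getD x []).length 78 &&
        (List.range 78).all fun j => peq (pl (col j (genM.getD x 0))) ((cols.getD x []).getD j (0, 0)))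

/-- The image under a word in the generators. -/
def gAp (r : List ℕ) (v : ℕ × ℕ) : ℕ × ℕ := r.foldr (fun x u => apC (cols.getD x []) u) v

/-- A relation holds. -/
def okRel (r : List ℕ) : Bool := Nat.beq (r.foldr (fun x A => mulM (genM.getD x 0) A) oneM) oneM

/-- The base vector is fixed and the first generator is not the identity. -/
def okBase : Bool :=
  (stab.all fun x => peq (gAp [x] baseVec) baseVec && (Nat.blt 0 x && Nat.blt x 9)) &&
    Nat.beq (codeAt baseVec base) 1 && Nat.beq (codeAt (gAp [0] (1, 0)) 70) 1

/-- The rows are the transposed columns. -/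
def okRows : Bool :=
  Nat.beq rowsT.length stab.length && (List.range stab.length).all fun k =>
    Nat.beq (rowsT.getD k []).length 78 && (List.range 78).all fun i => (List.range 78).all fun j =>
      Nat.beq (codeAt ((rowsT.getD k []).getD i (0, 0)) j) (codeAt ((cols.getD (stab.getD k 0) []).getD j (0, 0)) i)

/-- The value of a row combination. -/
def comb : List (List (ℕ × ℕ)) → List (ℕ × ℕ) → ℕ × ℕ
  | R :: Rs, u :: us => pxor (pxor (apC R u) u) (comb Rs us)
  | _, _ => (0, 0)

/-- The fixed space is the line of the base vector. -/
def okFix : Bool :=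
  ((List.range 78).all fun p => Nat.beq p base || fixCert.any fun c => Nat.beq c.1 p) &&
    fixCert.all fun c => peq (comb rowsT c.2.2) (pxor (2 ^ c.1, 0) (put c.2.1 base)) &&
      Nat.beq (codeAt baseVec c.1) c.2.1

/-- The spun vectors. -/
def spun : List (ℕ × ℕ) → List (ℕ × ℕ) → List (ℕ × ℕ)
  | [], S => S
  | s :: rest, S => spun rest (S ++ [gAp [s.1] (S.getD s.2 (0, 0))])

/-- The base vector spins to the whole module under the generators other than the first. -/
def okSpin : Bool :=
  (spins.all fun s => Nat.blt 0 s.1 && Nat.blt s.1 9) &&
    (fun S : List (ℕ × ℕ) => (List.range 78).all fun i => peq (apC S (units.getD i (0, 0))) (2 ^ i, 0))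
      (spun spins [baseVec])

theorem okTab_true : okTab = true := by decide +kernel

theorem okLetters_true : okLetters = true := by decide +kernel

theorem okBase_true : okBase = true := by decide +kernel

theorem okRows_true : okRows = true := by decide +kernel

theorem okFix_true : okFix = true := by decide +kernel

theorem okSpin_true : okSpin = true := by decide +kernel

theorem okRootM_true : okRootM = true := by decide +kernel

theorem okGens_true : okGens = true := by decide +kernel

theorem okRels_true : Fi22Cert.pres.relW.all okRel = true := by decide +kernel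

end Cfsg.Agent.Small.E6Fi22
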