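import Cfsg.Agent.Lib.Small.E6Three.Main

/-!
A subgroup of the twisted group of type E6 over four elements whose centraliser is scalar and whose
automorphisms have inner squares gives three classes of isomorphic subgroups.
-/

set_option autoImplicit false
set_option maxRecDepth 4000

namespace Cfsg.Agent.Small.E6Fi22

open Cfsg.Lie Cfsg.Agent.Lie Matrix Cfsg.Agent.Small.E6Three
open scoped MatrixGroups

variable {K : Type*} [Field K] [Fintype K] [CharP K 2]

theorem threeClasses (hK : Fintype.card K = 4) (H0 : Subgroup (GL chevE6.Idx K))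
    (hle : H0 ≤ twistedE6 K 2)
    (hscal : ∀ c : GL chevE6.Idx K, (∀ h ∈ H0, c * h = h * c) →
      ∃ s : K, (c : Matrix chevE6.Idx chevE6.Idx K) = s • 1)
    (hout : ∀ β : ↥H0 ≃* ↥H0, ∃ a : ↥H0, ∀ h, β (β h) = a * h * a⁻¹) :
    ∃ H : Fin 3 → Subgroup (twistedE6 K 2),
      (∀ i, Nonempty ((H i) ≃* H0)) ∧
      (∀ i j, i ≠ j → ∀ g : (twistedE6 K 2), (H i).map (MulAut.conj g).toMonoidHom ≠ H j) := by
  classical
  obtain ⟨S⟩ := Cfsg.Agent.Lie.E6.nonempty_setup (q := 2) (Nat.prime_two.isPrimePow) (K := K)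
    (hK.trans (by norm_num))
  have hcard : Fintype.card Kˣ = 3 := by rw [Fintype.card_units, hK]
  have hcube : ∀ x : Kˣ, x ^ 3 = 1 := fun x => by rw [← hcard]; exact pow_card_eq_one
  haveI : Nontrivial Kˣ := Fintype.one_lt_card_iff_nontrivial.1 (by omega)
  obtain ⟨u, hu1⟩ := exists_ne (1 : Kˣ)
  have hu := hcube u
  set d := dg u with hd'
  have hd3 : d ^ 3 = 1 := by
    rw [hd', ← dg_pow, hu, ← pow_zero u, dg_pow, pow_zero]
  let Hc : Fin 3 → Subgroup (GL chevE6.Idx K) := fun i => H0.map (MulAut.conj (d ^ i.val)).toMonoidHom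
  have hHle : ∀ i, Hc i ≤ twistedE6 K 2 := by
    rintro i _ ⟨x, hx, rfl⟩
    exact dg_pow_twisted hu _ (hle hx)
  refine ⟨fun i => (Hc i).subgroupOf (twistedE6 K 2), fun i => ?_, fun i j hij g heq => ?_⟩
  · exact ⟨(Subgroup.subgroupOfEquivOfLe (hHle i)).trans
      (Subgroup.equivMapOfInjective H0 _ (MulAut.conj (d ^ i.val)).injective).symm⟩
  replace heq : ((Hc i).subgroupOf (twistedE6 K 2)).map (MulAut.conj g).toMonoidHom =
      (Hc j).subgroupOf (twistedE6 K 2) := heq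
  set m := (d ^ j.val)⁻¹ * (g : GL chevE6.Idx K) * d ^ i.val with hm
  have hcalc : ∀ h : GL chevE6.Idx K, m * h * m⁻¹ = (d ^ j.val)⁻¹ * ((g : GL chevE6.Idx K) *
      (d ^ i.val * h * (d ^ i.val)⁻¹) * (g : GL chevE6.Idx K)⁻¹) * d ^ j.val := by
    intro h; rw [hm]; group
  have hmH : H0.map (MulAut.conj m).toMonoidHom = H0 := by
    apply le_antisymm
    · rintro _ ⟨h, hh, rfl⟩
      have h1 : (⟨d ^ i.val * h * (d ^ i.val)⁻¹, hHle i ⟨h, hh, rfl⟩⟩ : twistedE6 K 2) ∈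
          (Hc i).subgroupOf (twistedE6 K 2) := ⟨h, hh, rfl⟩
      have h2 := heq ▸ Subgroup.mem_map_of_mem (MulAut.conj g).toMonoidHom h1
      obtain ⟨x, hx, he⟩ := Subgroup.mem_subgroupOf.1 h2
      simp only [MulEquiv.coe_toMonoidHom, MulAut.conj_apply, Subgroup.coe_mul, Subgroup.coe_inv] at he
      show m * h * m⁻¹ ∈ H0
      rw [hcalc, ← he]
      rw [show (d ^ j.val)⁻¹ * (d ^ j.val * x * (d ^ j.val)⁻¹) * d ^ j.val = x by group]
      exact hx
    · intro x hx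
      have h1 : (⟨d ^ j.val * x * (d ^ j.val)⁻¹, hHle j ⟨x, hx, rfl⟩⟩ : twistedE6 K 2) ∈
          (Hc j).subgroupOf (twistedE6 K 2) := ⟨x, hx, rfl⟩
      rw [← heq] at h1
      obtain ⟨z, ⟨h, hh, hz⟩, he⟩ := h1
      have he' := congrArg (Subtype.val : twistedE6 K 2 → GL chevE6.Idx K) he
      simp only [MulEquiv.coe_toMonoidHom, MulAut.conj_apply, Subgroup.coe_mul, Subgroup.coe_inv] at he'
      replace hz : d ^ i.val * h * (d ^ i.val)⁻¹ = (z : GL chevE6.Idx K) := hz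
      refine ⟨h, hh, ?_⟩
      show m * h * m⁻¹ = x
      rw [hcalc, hz, he']
      group
  let β : ↥H0 ≃* ↥H0 := ((MulAut.conj m).subgroupMap H0).trans (MulEquiv.subgroupCongr hmH)
  obtain ⟨a, ha⟩ := hout β
  obtain ⟨s, hs⟩ := hscal ((a : GL chevE6.Idx K)⁻¹ * (m * m)) fun h hh => by
    have e : m * (m * h * m⁻¹) * m⁻¹ = (a : GL chevE6.Idx K) * h * (a : GL chevE6.Idx K)⁻¹ :=
      congrArg Subtype.val (ha ⟨h, hh⟩)
    calc (a : GL chevE6.Idx K)⁻¹ * (m * m) * h
        = (a : GL chevE6.Idx K)⁻¹ * (m * (m * h * m⁻¹) * m⁻¹) * (m * m) := by group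
      _ = h * ((a : GL chevE6.Idx K)⁻¹ * (m * m)) := by rw [e]; group
  set k := 2 * j.val + i.val with hk
  set g' := d ^ (2 * j.val) * (g : GL chevE6.Idx K) * (d ^ (2 * j.val))⁻¹ with hg'
  have hme : m = g' * d ^ k := by
    rw [hg', hk, pow_add, hm, show (d ^ j.val)⁻¹ = d ^ (2 * j.val) by
      rw [inv_eq_iff_mul_eq_one, ← pow_add, show j.val + 2 * j.val = 3 * j.val by ring, pow_mul, hd3,
        one_pow]]
    group
  set y' := g' * (d ^ k * g' * (d ^ k)⁻¹) with hy'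
  have hy'm : y' ∈ twistedE6 K 2 :=
    mul_mem (dg_pow_twisted hu _ g.2) (dg_pow_twisted hu _ (dg_pow_twisted hu _ g.2))
  refine not_mem_group (u := u ^ (2 * k)) ?_ ?_ hcube (v := y'⁻¹ * (a : GL chevE6.Idx K))
    (c := (a : GL chevE6.Idx K)⁻¹ * (m * m)) (s := s) hs
    (S.le_fix (mul_mem (inv_mem hy'm) (hle a.2))).1 ?_
  · rw [← pow_mul, mul_comm, pow_mul, hu, one_pow]
  · intro h
    apply hu1
    have hi := i.isLt
    have hj := j.isLt
    have := Fin.val_ne_of_ne hij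
    rcases (show k % 3 = 1 ∨ k % 3 = 2 by omega) with h' | h'
    · rw [pow_mod_three hu (b := 2) (by omega)] at h
      calc u = u * u ^ 2 := by rw [h, mul_one]
        _ = 1 := by rw [← pow_succ', hu]
    · rwa [pow_mod_three hu (b := 1) (by omega), pow_one] at h
  · rw [hy', hme, dg_pow, ← hd', two_mul, pow_add]
    group

end Cfsg.Agent.Small.E6Fi22
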