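import Cfsg.Agent.Lib.Small.E6Fi22.Checks
import Cfsg.Agent.Lib.Small.E6Three.Main
import Cfsg.Agent.Lib.Spor.Fi22Main

/-!
The homomorphism from Fi22 into the twisted group of type E6 over four elements and the centraliser of
its image.
-/

set_option autoImplicit false
set_option maxRecDepth 4000

namespace Cfsg.Agent.Small.E6Fi22

open Cfsg.Lie Cfsg.Agent.Lie Matrix Cfsg.Agent.Small.E6Three Cfsg.Agent.Spor Cfsg.Agent.Spor.CC
open scoped MatrixGroups

variable {K : Type*} [Field K] [CharP K 2] {w : K}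

/-- A root element given by its index. -/
noncomputable def kM (w : K) (k : ℕ) : GL chevE6.Idx K :=
  factsE6.xg (pairs.getD k (0, 0)).1 (val w (pairs.getD k (0, 0)).2)

/-- The image of a generator. -/
noncomputable def gM (w : K) (x : ℕ) : GL chevE6.Idx K := ((rootIx x).map (kM w)).prod

theorem n78 : chevE6.rank + chevE6.nroots = 78 := by decide

theorem gw_length : gw.length = 9 := by decide

theorem gM_big {x : ℕ} (hx : ¬ x < 9) : gM w x = 1 := by
  rw [gM, rootIx, List.getD_eq_default _ _ (by rw [gw_length]; omega)]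
  simp

theorem rootIx_lt {x k : ℕ} (hk : k ∈ rootIx x) : k < 20 := by
  obtain ⟨l, hl, hkl⟩ := List.mem_flatMap.1 hk
  have h := okLetters_true
  simp only [okLetters, Bool.and_eq_true, List.all_eq_true] at h
  by_cases hlt : l < lets.length
  · rw [List.getD_eq_getElem _ _ hlt] at hkl
    have := h.1 _ (List.getElem_mem hlt)
    generalize lets[l] = L at hkl this
    rcases L with _ | ⟨a, _ | ⟨b, _ | _⟩⟩ <;> simp_all [okLetter]
    rcases hkl with rfl | rfl <;> simp [this]
  · rw [List.getD_eq_default _ _ (not_lt.1 hlt)] at hkl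
    exact absurd hkl List.not_mem_nil

theorem peq_iff {u v : ℕ × ℕ} : peq u v = true ↔ u = v := by
  simp [peq, Prod.ext_iff]

variable (hw : w ^ 2 = w + 1)
include hw

theorem rep_root {k : ℕ} (hk : k < 20) :
    Rep w (kM w k : Matrix chevE6.Idx chevE6.Idx K) (rootM.getD k 0) := by
  intro j hj
  have ht := okTab_true
  simp only [okTab, Bool.and_eq_true, List.all_eq_true, beq_iff_eq] at ht
  have hm := okRootM_true
  simp only [okRootM, Bool.and_eq_true, List.all_eq_true, List.mem_range, peq_iff, Nat.beq_eq] at hm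
  have hlen : k < pairs.length := by
    rw [show pairs.length = 20 from rfl]; exact hk
  have hp : pairs.getD k (0, 0) ∈ pairs := by
    rw [List.getD_eq_getElem _ _ hlen]; exact List.getElem_mem hlen
  rw [kM, Facts.coe_xg, x_mulVec4 hw _ _ (ht.1 _ hp), ← hm.2 k hk j (n78 ▸ hj), kAp, ← ht.2, List.getD_eq_getElem _ _ hlen,
    List.getD_eq_getElem _ _ (by rwa [List.length_map]), List.getElem_map]

omit hw in
theorem rep_one : Rep w (1 : Matrix chevE6.Idx chevE6.Idx K) oneM := by
  intro j hj
  have h := okGens_true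
  simp only [okGens, Bool.and_eq_true, List.all_eq_true, List.mem_range, peq_iff, Nat.beq_eq] at h
  rw [Matrix.one_mulVec, h.1 j (n78 ▸ hj)]

theorem rep_mul {A B : Matrix chevE6.Idx chevE6.Idx K} {MA MB : ℕ} (hA : Rep w A MA) (hB : Rep w B MB) :
    Rep w (A * B) (mulM MA MB) := by
  have h := okRootM_true
  simp only [okRootM, Bool.and_eq_true, Nat.beq_eq] at h
  rw [mulM, h.1]
  exact Rep.mul hw n78 hA hB

theorem rep_prod (f : ℕ → GL chevE6.Idx K) (F : ℕ → ℕ) : ∀ L : List ℕ,
    (∀ k ∈ L, Rep w (f k : Matrix chevE6.Idx chevE6.Idx K) (F k)) →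
    Rep w ((L.map f).prod : GL chevE6.Idx K).val (L.foldr (fun k A => mulM (F k) A) oneM)
  | [], _ => by simpa using rep_one
  | k :: L, h => by
    rw [List.map_cons, List.prod_cons, List.foldr_cons, Units.val_mul]
    exact rep_mul hw (h k List.mem_cons_self)
      (rep_prod f F L fun x hx => h x (List.mem_cons_of_mem _ hx))

theorem rep_gen {x : ℕ} (hx : x < 9) :
    Rep w (gM w x : Matrix chevE6.Idx chevE6.Idx K) (genM.getD x 0) := by
  have h := okGens_true
  simp only [okGens, Bool.and_eq_true, List.all_eq_true, List.mem_range, Nat.beq_eq] at h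
  rw [← (h.2 x hx).1]
  exact rep_prod hw _ _ _ fun k hk => rep_root hw (rootIx_lt hk)

theorem gM_rel {r : List ℕ} (hr : r ∈ Fi22Cert.pres.relW) : (r.map (gM w)).prod = 1 := by
  have h := okRels_true
  simp only [List.all_eq_true, okRel, Nat.beq_eq] at h
  refine Units.ext (Rep.ext (w := w) ?_ rep_one)
  rw [← h r hr]
  exact rep_prod hw _ _ _ fun x hx => rep_gen hw (lettersOK_spec Fi22Cert.relW_letters hr hx)

theorem gM_sq (x : ℕ) : gM w x * gM w x = 1 := by
  by_cases hx : x < 9
  · have hr : [x, x] ∈ Fi22Cert.pres.relW := by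
      simp only [Pres.relW, List.mem_append, List.mem_map, List.mem_range]
      exact Or.inl (Or.inl ⟨x, hx, rfl⟩)
    simpa using gM_rel hw hr
  · rw [gM_big hx, one_mul]

theorem gM_rels : ∀ r ∈ Cfsg.Spor.coxRelators Fi22Cert.pres.edges ∪ {r | r ∈ Fi22Cert.pres.extra},
    FreeGroup.lift (gM w ∘ Fi22Cert.pres.ix) r = 1 := by
  intro r hr
  have hQ := Fi22Cert.pres_ok
  have hi : ∀ x, (gM w x)⁻¹ = gM w x := fun x => inv_eq_of_mul_eq_one_left (gM_sq hw x)
  have hpair : ∀ i j, j < i → i < 9 →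
      (gM w j * gM w i) ^ Cfsg.Spor.coxLabel Fi22Cert.pres.edges (Fi22Cert.pres.nm j) (Fi22Cert.pres.nm i) = 1 := by
    intro i j hji hi9
    have := gM_rel hw (r := powW (Cfsg.Spor.coxLabel Fi22Cert.pres.edges (Fi22Cert.pres.nm j)
        (Fi22Cert.pres.nm i)) [j, i]) (by
      simp only [Pres.relW, List.mem_append, List.mem_map, List.mem_flatMap, List.mem_range]
      exact Or.inl (Or.inr ⟨i, hi9, j, hji, rfl⟩))
    rw [prod_powW] at this
    simpa using this
  rcases hr with ⟨x, -, y, -, rfl⟩ | hr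
  · rw [map_pow, map_mul, FreeGroup.lift_apply_of, FreeGroup.lift_apply_of, Function.comp_apply,
      Function.comp_apply]
    rcases lt_trichotomy (Fi22Cert.pres.ix x) (Fi22Cert.pres.ix y) with hlt | heq | hgt
    · have := hpair _ _ hlt (hQ.ix_lt y)
      rwa [hQ.nm_ix, hQ.nm_ix] at this
    · rw [heq, gM_sq hw, one_pow]
    · have := hpair _ _ hgt (hQ.ix_lt x)
      rw [hQ.symm _ (hQ.ix_lt y) _ (hQ.ix_lt x), hQ.nm_ix, hQ.nm_ix] at this
      rw [show gM w (Fi22Cert.pres.ix x) * gM w (Fi22Cert.pres.ix y) =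
        (gM w (Fi22Cert.pres.ix y) * gM w (Fi22Cert.pres.ix x))⁻¹ by rw [_root_.mul_inv_rev, hi, hi],
        inv_pow, this, inv_one]
  · have key : Fi22Cert.pres.extra.map (FreeGroup.lift (gM w ∘ Fi22Cert.pres.ix)) =
        Fi22Cert.pres.extraW.map fun u => (u.map (gM w)).prod := by
      simp [Fi22Cert.pres, Cfsg.Spor.Fi22.extra, powW, List.replicate, pow_succ, _root_.mul_inv_rev, hi, mul_assoc,
        Fi22Cert.ixGen]
    have hmem : FreeGroup.lift (gM w ∘ Fi22Cert.pres.ix) r ∈
        Fi22Cert.pres.extra.map (FreeGroup.lift (gM w ∘ Fi22Cert.pres.ix)) :=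
      List.mem_map.mpr ⟨r, hr, rfl⟩
    rw [key] at hmem
    obtain ⟨u, hu, e⟩ := List.mem_map.mp hmem
    rw [← e]
    exact gM_rel hw (by simp [Pres.relW, hu])

/-- The homomorphism from Fi22. -/
noncomputable def hom : Fi22Cert.pres.Grp →* GL chevE6.Idx K := PresentedGroup.toGroup (gM_rels hw)

theorem hom_gen {x : ℕ} (hx : x < 9) : hom hw (Fi22Cert.pres.gen x) = gM w x := by
  rw [Pres.gen, if_pos (show x < Fi22Cert.pres.ng from hx), hom, PresentedGroup.toGroup.of,
    Function.comp_apply, Fi22Cert.pres_ok.ix_nm x hx]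

theorem gM_mulVec {x : ℕ} (hx : x < 9) (v : ℕ × ℕ) :
    (gM w x : Matrix chevE6.Idx chevE6.Idx K) *ᵥ vec4 chevE6 w v = vec4 chevE6 w (gAp [x] v) := by
  have h := okGens_true
  simp only [okGens, Bool.and_eq_true, List.all_eq_true, List.mem_range, peq_iff, Nat.beq_eq] at h
  show _ = vec4 chevE6 w (apC (cols.getD x []) v)
  refine apC_mulVec hw _ _ ((h.2 x hx).2.1.trans n78.symm) (fun i hi => ?_) v
  rw [rep_gen hw hx i hi, (h.2 x hx).2.2 i (n78 ▸ hi)]

theorem hom_injective : Function.Injective (hom hw) := by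
  haveI := Fi22Cert.simple
  rcases IsSimpleGroup.eq_bot_or_eq_top_of_normal (hom hw).ker inferInstance with h | h
  · exact (MonoidHom.ker_eq_bot_iff _).1 h
  · exfalso
    have h0 : gM w 0 = 1 := by
      rw [← hom_gen hw (by norm_num : 0 < 9)]
      exact MonoidHom.mem_ker.1 (by rw [h]; exact Subgroup.mem_top _)
    have hb := okBase_true
    simp only [okBase, Bool.and_eq_true, Nat.beq_eq] at hb
    have hlt : 70 < chevE6.rank + chevE6.nroots := by decide
    have e := congrFun (gM_mulVec hw (by norm_num : 0 < 9) (1, 0)) ((idxEquiv chevE6).symm ⟨70, hlt⟩)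
    rw [h0, Units.val_one, Matrix.one_mulVec, vec4_apply, vec4_apply, Equiv.apply_symm_apply,
      hb.2, val_one, show codeAt (1, 0) 70 = 0 from rfl] at e
    simp [val, code_bits] at e

theorem hom_gen_big {x : ℕ} (hx : ¬ x < 9) : hom hw (Fi22Cert.pres.gen x) = 1 := by
  rw [Pres.gen_big (Q := Fi22Cert.pres) hx, map_one]

theorem kM_letters (hK2 : ∀ l ∈ lets, ((l.map (kM w)).prod : GL chevE6.Idx K) ∈ twistedE6 K 2) (x : ℕ) :
    gM w x ∈ twistedE6 K 2 := by
  have h : ∀ L : List ℕ, ((L.flatMap fun l => lets.getD l []).map (kM w)).prod ∈ twistedE6 K 2 := by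
    intro L
    induction L with
    | nil => simp
    | cons l L ih =>
      rw [List.flatMap_cons, List.map_append, List.prod_append]
      refine mul_mem ?_ ih
      by_cases hl : l < lets.length
      · rw [List.getD_eq_getElem _ _ hl]; exact hK2 _ (List.getElem_mem hl)
      · rw [List.getD_eq_default _ _ (not_lt.1 hl)]; simp
  exact h _

theorem letter_mem {l : List ℕ} (hl : l ∈ lets) : ((l.map (kM w)).prod : GL chevE6.Idx K) ∈ twistedE6 K 2 := by
  have h := okLetters_true
  simp only [okLetters, Bool.and_eq_true, List.all_eq_true] at h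
  have := h.1 l hl
  rcases l with _ | ⟨a, _ | ⟨b, _ | _⟩⟩
  · simp [okLetter] at this
  · simp only [okLetter, Bool.and_eq_true, List.any_eq_true, beq_iff_eq] at this
    obtain ⟨⟨p, hp, he⟩, -⟩ := this
    have hwg : ([a].map (kM w)).prod = factsE6.wg [(p.1, val w p.2)] := by
      simp only [kM, Facts.wg, List.map_cons, List.map_nil, he]
    rw [hwg]
    refine mem_twisted (Or.inl ⟨val w p.2, ?_, p.1, ?_, rfl⟩) <;>
      simp only [List.mem_cons, List.not_mem_nil, or_false] at hp <;>
      rcases hp with rfl | rfl | rfl | rfl <;> simp [val_one, e6p2, e6m2, e6p4, e6m4]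
  · simp only [okLetter, Bool.and_eq_true, List.any_eq_true, beq_iff_eq, Nat.beq_eq] at this
    obtain ⟨⟨⟨⟨p, hp, he⟩, hc⟩, -⟩, -⟩ := this
    have hwg : ([a, b].map (kM w)).prod = factsE6.wg [(p.1, val w (pairs.getD a (0, 0)).2),
        (p.2, val w (pairs.getD a (0, 0)).2 ^ 2)] := by
      simp only [kM, Facts.wg, List.map_cons, List.map_nil, he, hc, val_fmul hw, pow_two]
    rw [hwg]
    refine mem_twisted (Or.inr ⟨val w (pairs.getD a (0, 0)).2, p, ?_, rfl⟩)
    simp only [List.mem_cons, List.not_mem_nil, or_false] at hp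
    rcases hp with rfl | rfl | rfl | rfl <;> simp [e6p1, e6m1, e6p3, e6m3, e6p5, e6m5, e6p6, e6m6]
  · simp [okLetter] at this

theorem range_le : (hom hw).range ≤ twistedE6 K 2 := by
  rw [MonoidHom.range_eq_map, ← Pres.closure_gen Fi22Cert.pres_ok, MonoidHom.map_closure]
  refine (Subgroup.closure_le _).2 ?_
  rintro _ ⟨_, ⟨x, hx, rfl⟩, rfl⟩
  rw [hom_gen hw (show x < 9 from hx)]
  exact kM_letters hw (fun l hl => letter_mem hw hl) x

theorem row_mulVec {k : ℕ} (hk : k < stab.length) (u : ℕ × ℕ) :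
    (gM w (stab.getD k 0) : Matrix chevE6.Idx chevE6.Idx K)ᵀ *ᵥ vec4 chevE6 w u =
      vec4 chevE6 w (apC (rowsT.getD k []) u) := by
  have h := okRows_true
  simp only [okRows, Bool.and_eq_true, List.all_eq_true, List.mem_range, Nat.beq_eq] at h
  have hx : stab.getD k 0 < 9 := by
    have hb := okBase_true
    simp only [okBase, Bool.and_eq_true, List.all_eq_true, Nat.blt_eq] at hb
    rw [List.getD_eq_getElem _ _ hk]
    exact (hb.1.1 _ (List.getElem_mem hk)).2.2
  have hg := okGens_true
  simp only [okGens, Bool.and_eq_true, List.all_eq_true, List.mem_range, peq_iff, Nat.beq_eq] at hg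
  refine apC_mulVec hw _ _ ((h.2 k hk).1.trans n78.symm) (fun i hi => ?_) u
  funext p
  have hp := (idxEquiv chevE6 p).isLt
  have e1 := congrFun (rep_gen hw hx _ hp) ((idxEquiv chevE6).symm ⟨i, hi⟩)
  rw [vec4_unit, Matrix.mulVec_single_one, (hg.2 _ hx).2.2 _ (n78 ▸ hp), vec4_apply, Equiv.apply_symm_apply,
    ← (h.2 k hk).2 i (n78 ▸ hi) _ (n78 ▸ hp)] at e1
  have e2 : vec4 chevE6 w (2 ^ i, 0) = Pi.single ((idxEquiv chevE6).symm ⟨i, hi⟩) (1 : K) := by
    rw [← vec4_unit (w := w), Equiv.apply_symm_apply]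
  rw [e2, Matrix.mulVec_single_one, vec4_apply]
  exact e1

/-- A matrix commuting with the generators other than the first is scalar. -/
theorem scalar_of_comm {C : Matrix chevE6.Idx chevE6.Idx K}
    (hC : ∀ x, 1 ≤ x → x < 9 → C * (gM w x : Matrix chevE6.Idx chevE6.Idx K) = gM w x * C) :
    ∃ s : K, C = s • (1 : Matrix chevE6.Idx chevE6.Idx K) := by
  have hb := okBase_true
  simp only [okBase, Bool.and_eq_true, List.all_eq_true, Nat.blt_eq, Nat.beq_eq, peq_iff] at hb
  have hlen : rowsT.length = stab.length := by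
    have h := okRows_true
    simp only [okRows, Bool.and_eq_true, Nat.beq_eq] at h
    exact h.1
  set y := C *ᵥ vec4 chevE6 w baseVec with hy
  have hfix : ∀ x ∈ stab, (gM w x : Matrix chevE6.Idx chevE6.Idx K) *ᵥ y = y := by
    intro x hx
    obtain ⟨he, h1, h2⟩ := hb.1.1 x hx
    rw [hy, mulVec_mulVec, ← hC x h1 h2, ← mulVec_mulVec, gM_mulVec hw h2, he]
  have hdot : ∀ (n k : ℕ), k + n = stab.length → ∀ us : List (ℕ × ℕ),
      vec4 chevE6 w (comb (rowsT.drop k) us) ⬝ᵥ y = 0 := by
    intro n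
    induction n with
    | zero =>
      intro k hk us
      rw [List.drop_eq_nil_of_le (by omega)]
      cases us <;> simp [comb, vec4_zero]
    | succ n ih =>
      intro k hk us
      rcases us with _ | ⟨u, us⟩
      · cases rowsT.drop k <;> simp [comb, vec4_zero]
      · rw [List.drop_eq_getElem_cons (show k < rowsT.length by omega), comb, vec4_pxor, add_dotProduct,
          ih (k + 1) (by omega) us, add_zero, vec4_pxor, add_dotProduct,
          ← List.getD_eq_getElem _ [] (show k < rowsT.length by omega), ← row_mulVec hw (by omega),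
          Matrix.mulVec_transpose, ← dotProduct_mulVec, hfix]
        · exact CharTwo.add_self_eq_zero _
        · rw [List.getD_eq_getElem _ _ (show k < stab.length by omega)]
          exact List.getElem_mem _
  have hbase : base < chevE6.rank + chevE6.nroots := by decide
  set P0 := (idxEquiv chevE6).symm ⟨base, hbase⟩ with hP0
  set a := y P0 with ha
  have hline : ∀ p, y p = a * vec4 chevE6 w baseVec p := by
    intro p
    have h := okFix_true
    simp only [okFix, List.all_eq_true, List.mem_range, Bool.and_eq_true, Bool.or_eq_true, Nat.beq_eq,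
      List.any_eq_true, peq_iff] at h
    rw [vec4_apply]
    rcases h.1 (idxEquiv chevE6 p : ℕ) (lt_of_lt_of_eq (Fin.isLt _) n78) with h' | ⟨c, hc, hc'⟩
    · rw [h', hb.1.2, val_one, mul_one, ha, hP0]
      congr 1
      rw [Equiv.eq_symm_apply]
      exact Fin.ext h'
    · have := hdot stab.length 0 (by omega) c.2.2
      rw [List.drop_zero, (h.2 c hc).1, vec4_pxor, add_dotProduct] at this
      rw [← hc', (h.2 c hc).2]
      have e1 : vec4 chevE6 w (put c.2.1 base) = Pi.single P0 (val w c.2.1) := by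
        funext q
        rw [vec4_put, Pi.single_apply]
        simp only [hP0, Equiv.eq_symm_apply, Fin.ext_iff]
      rw [hc', vec4_unit, e1, single_dotProduct, single_dotProduct, one_mul, ← ha] at this
      rw [CharTwo.add_eq_zero.1 this, mul_comm]
  set C' := C - a • (1 : Matrix chevE6.Idx chevE6.Idx K) with hC'
  have hkill : C' *ᵥ vec4 chevE6 w baseVec = 0 := by
    rw [hC', sub_mulVec, smul_mulVec, one_mulVec, ← hy]
    funext p
    simp [hline p]
  have hcomm : ∀ x, 1 ≤ x → x < 9 → C' * (gM w x : Matrix chevE6.Idx chevE6.Idx K) = gM w x * C' := by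
    intro x h1 h2
    rw [hC', sub_mul, mul_sub, hC x h1 h2, smul_mul_assoc, mul_smul_comm, one_mul, mul_one]
  have hs := okSpin_true
  simp only [okSpin, List.all_eq_true, List.mem_range, Bool.and_eq_true, Nat.blt_eq, peq_iff, Nat.beq_eq] at hs
  have hspun : ∀ (L : List (ℕ × ℕ)), (∀ x ∈ L, 0 < x.1 ∧ x.1 < 9) → ∀ S : List (ℕ × ℕ),
      (∀ v ∈ S, C' *ᵥ vec4 chevE6 w v = 0) → ∀ v ∈ spun L S, C' *ᵥ vec4 chevE6 w v = 0 := by
    intro L
    induction L with
    | nil => exact fun _ S hS => hS
    | cons x L ih =>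
      intro hL S hS
      refine ih (fun z hz => hL z (List.mem_cons_of_mem _ hz)) _ fun v hv => ?_
      rcases List.mem_append.1 hv with hv | hv
      · exact hS v hv
      · obtain ⟨h1, h2⟩ := hL x List.mem_cons_self
        rw [List.mem_singleton.1 hv, ← gM_mulVec hw h2, mulVec_mulVec, hcomm _ h1 h2, ← mulVec_mulVec]
        by_cases hx : x.2 < S.length
        · rw [List.getD_eq_getElem _ _ hx, hS _ (List.getElem_mem hx), mulVec_zero]
        · rw [List.getD_eq_default _ _ (not_lt.1 hx), vec4_zero, mulVec_zero, mulVec_zero]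
  have happ : ∀ (S : List (ℕ × ℕ)), (∀ v ∈ S, C' *ᵥ vec4 chevE6 w v = 0) →
      ∀ u, C' *ᵥ vec4 chevE6 w (apC S u) = 0 := by
    intro S
    induction S with
    | nil => intro _ u; rw [apC, vec4_zero, mulVec_zero]
    | cons v S ih =>
      intro hS u
      rw [apC, vec4_pxor, vec4_sAp hw, mulVec_add, mulVec_smul, hS v List.mem_cons_self, smul_zero, zero_add,
        ih (fun z hz => hS z (List.mem_cons_of_mem _ hz))]
  refine ⟨a, sub_eq_zero.1 (ext_of_units4 (w := w) fun i hi => ?_)⟩
  rw [zero_mulVec, ← hC', ← hs.2 i (n78 ▸ hi)]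
  exact happ _ (hspun spins hs.1 [baseVec] fun v hv => by rw [List.mem_singleton.1 hv, hkill]) _

end Cfsg.Agent.Small.E6Fi22
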