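import Cfsg.Agent.Lib.Small.E6Fi22.Hom
import Cfsg.Agent.Lib.Small.E6Fi22.Classes
import Cfsg.Agent.Lib.Spor.Fi22OutMain
import Mathlib.Algebra.CharP.Two

/-!
Three classes of subgroups isomorphic to Fi22 in the twisted group of type E6 over four elements.
-/

set_option autoImplicit false

namespace Cfsg.Agent.Small.E6Fi22

open Cfsg.Lie Cfsg.Agent.Lie Matrix Cfsg.Agent.Spor Cfsg.Agent.Spor.CC
open scoped MatrixGroups

variable {K : Type*} [Field K] [Fintype K]

theorem exists_w (hK : Fintype.card K = 4) : CharP K 2 ∧ ∃ w : K, w ^ 2 = w + 1 := by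
  have h2 : ((4 : ℕ) : K) = 0 := by rw [← hK]; exact FiniteField.cast_card_eq_zero K
  haveI : CharP K 2 := by
    refine (CharP.charP_iff_prime_eq_zero Nat.prime_two).2 ?_
    have : ((2 : ℕ) : K) * ((2 : ℕ) : K) = 0 := by rw [← Nat.cast_mul]; exact h2
    exact mul_self_eq_zero.1 this
  classical
  have hcard : Fintype.card Kˣ = 3 := by rw [Fintype.card_units, hK]
  haveI : Nontrivial Kˣ := Fintype.one_lt_card_iff_nontrivial.1 (by omega)
  obtain ⟨u, hu1⟩ := exists_ne (1 : Kˣ)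
  refine ⟨inferInstance, u, ?_⟩
  have h3 : (u : K) ^ 3 = 1 := by
    rw [← Units.val_pow_eq_pow_val, ← hcard, pow_card_eq_one, Units.val_one]
  have h : ((u : K) - 1) * ((u : K) ^ 2 + u + 1) = 0 := by linear_combination h3
  rcases mul_eq_zero.1 h with h | h
  · exact absurd (Units.ext (sub_eq_zero.1 h)) hu1
  · have h20 : (2 : K) = 0 := CharTwo.two_eq_zero
    linear_combination h - ((u : K) + 1) * h20

theorem sq_inner (β : Fi22Cert.pres.Grp ≃* Fi22Cert.pres.Grp) :
    ∃ a : Fi22Cert.pres.Grp, ∀ x, β (β x) = a * x * a⁻¹ := by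
  haveI : Finite (Cfsg.Out Fi22Cert.pres.Grp) :=
    Nat.finite_of_card_ne_zero (by rw [Fi22Cert.Outer.card_out]; norm_num)
  have h : ((β : MulAut Fi22Cert.pres.Grp) * β) ∈ Cfsg.Inn Fi22Cert.pres.Grp := by
    rw [← QuotientGroup.eq_one_iff, QuotientGroup.mk_mul, ← pow_two, ← Fi22Cert.Outer.card_out]
    exact pow_card_eq_one'
  obtain ⟨a, ha⟩ := h
  exact ⟨a, fun x => (congrArg (fun φ : MulAut Fi22Cert.pres.Grp => φ x) ha).symm⟩

theorem main (hK : Fintype.card K = 4) :
    ∃ H : Fin 3 → Subgroup (twistedE6 K 2),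
      (∀ i, Nonempty ((H i) ≃* Cfsg.Spor.Fi22)) ∧
      (∀ i j, i ≠ j → ∀ g : (twistedE6 K 2), (H i).map (MulAut.conj g).toMonoidHom ≠ H j) := by
  obtain ⟨hch, w, hw⟩ := exists_w (K := K) hK
  haveI := hch
  let e : Fi22Cert.pres.Grp ≃* (hom hw).range := MonoidHom.ofInjective (hom_injective hw)
  obtain ⟨H, h1, h2⟩ := threeClasses hK (hom hw).range (range_le hw) (fun c hc => by
    refine scalar_of_comm hw fun x _ hx => ?_
    have := congrArg Units.val (hc _ ⟨_, hom_gen hw hx⟩)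
    simpa only [Units.val_mul] using this) (fun β => by
    obtain ⟨a, ha⟩ := sq_inner ((e.trans β).trans e.symm)
    refine ⟨e a, fun h => ?_⟩
    have := congrArg e (ha (e.symm h))
    simpa using this)
  exact ⟨H, fun i => (h1 i).map fun f => f.trans e.symm, h2⟩

end Cfsg.Agent.Small.E6Fi22
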