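import Cfsg.Agent.Lib.Small.E6Fi22.Main
import Cfsg.Agent.Lib.Spor.Fi22O7Out

/-!
Three classes of subgroups isomorphic to the orthogonal group in dimension seven over three elements in
the twisted group of type E6 over four elements.
-/

set_option autoImplicit false

namespace Cfsg.Agent.Small.E6Fi22

open Cfsg.Lie Cfsg.Agent.Lie Matrix Cfsg.Agent.Spor Cfsg.Agent.Spor.CC
open Cfsg.Agent.Spor.Fi22Cert.O7Act (Ksub gK)
open scoped MatrixGroups

variable {K : Type*} [Field K] [Fintype K]

theorem mainO7 (hK : Fintype.card K = 4) :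
    ∃ H : Fin 3 → Subgroup (twistedE6 K 2),
      (∀ i, Nonempty ((H i) ≃* Cfsg.Omega (ZMod 3) (Cfsg.quadFormOdd 3 (ZMod 3)))) ∧
      (∀ i j, i ≠ j → ∀ g : (twistedE6 K 2), (H i).map (MulAut.conj g).toMonoidHom ≠ H j) := by
  obtain ⟨hch, w, hw⟩ := exists_w (K := K) hK
  haveI := hch
  obtain ⟨eo⟩ := Fi22Cert.O7Out.omega_equiv
  let f : Ksub →* GL chevE6.Idx K := (hom hw).comp Ksub.subtype
  have hf : Function.Injective f := (hom_injective hw).comp Subtype.val_injective
  let e : Ksub ≃* f.range := MonoidHom.ofInjective hf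
  have hle : f.range ≤ twistedE6 K 2 := by
    rintro _ ⟨s, rfl⟩
    exact range_le hw ⟨_, rfl⟩
  obtain ⟨H, h1, h2⟩ := threeClasses hK f.range hle (fun c hc => by
    refine scalar_of_comm hw fun x h1 hx => ?_
    obtain ⟨y, rfl⟩ : ∃ y, x = y + 1 := ⟨x - 1, by omega⟩
    have hmem : gM w (y + 1) ∈ f.range := ⟨gK y, by
      show hom hw ((gK y : Ksub) : Fi22Cert.pres.Grp) = _
      rw [Fi22Cert.O7Out.gK_val (by omega), hom_gen hw hx]⟩
    have := congrArg Units.val (hc _ hmem)
    simpa only [Units.val_mul] using this) (fun β => by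
    obtain ⟨a, ha⟩ := Fi22Cert.O7Out.sq_inner ((e.trans β).trans e.symm)
    refine ⟨e a, fun h => ?_⟩
    have := congrArg e (ha (e.symm h))
    simpa using this)
  exact ⟨H, fun i => (h1 i).map fun g => g.trans (e.symm.trans eo), h2⟩

end Cfsg.Agent.Small.E6Fi22
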