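import Cfsg.Agent.Lib.Small.E6Fi22.Bits

/-!
Matrices over four elements packed into one number, with products computed by long multiplication.
-/

set_option autoImplicit false

namespace Cfsg.Agent.Small.E6Fi22

open Cfsg.Lie Cfsg.Agent.Lie Matrix Cfsg.Agent.Small.E6Three

/-- A mask with one bit at the start of each of `n` blocks. -/
def strideB (b : ℕ) : ℕ → ℕ
  | 0 => 0
  | n + 1 => 1 + strideB b n * 2 ^ b

/-- The mask for blocks of width 160. -/
def strideN (n : ℕ) : ℕ := strideB 160 n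

/-- A block of a packed matrix. -/
def col (j M : ℕ) : ℕ := (M >>> (160 * j)) % 2 ^ 160

/-- The planes of a block. -/
def pl (u : ℕ) : ℕ × ℕ := (u % 2 ^ 80, u >>> 80)

/-- The second code times a block. -/
def wk (u : ℕ) : ℕ := (u >>> 80) ||| ((Nat.xor (u % 2 ^ 80) (u >>> 80)) <<< 80)

/-- One summand of a product of packed matrices. -/
def mulT (S A B k : ℕ) : ℕ :=
  Nat.xor (((B >>> k) &&& S) * col k A) (((B >>> (80 + k)) &&& S) * wk (col k A))

/-- Partial product of packed matrices. -/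
def mulAux (S A B : ℕ) : ℕ → ℕ
  | 0 => 0
  | k + 1 => Nat.xor (mulT S A B k) (mulAux S A B k)

theorem wk_lt (u : ℕ) (hu : u < 2 ^ 160) : wk u < 2 ^ 160 := by
  have h1 : u >>> 80 < 2 ^ 80 := by
    rw [Nat.shiftRight_eq_div_pow, Nat.div_lt_iff_lt_mul (Nat.two_pow_pos _), ← pow_add]
    exact hu
  refine Nat.or_lt_two_pow (lt_trans h1 (by norm_num)) ?_
  rw [Nat.shiftLeft_eq]
  calc Nat.xor (u % 2 ^ 80) (u >>> 80) * 2 ^ 80 < 2 ^ 80 * 2 ^ 80 :=
        Nat.mul_lt_mul_of_pos_right (Nat.xor_lt_two_pow (Nat.mod_lt _ (Nat.two_pow_pos _)) h1) (Nat.two_pow_pos _)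
    _ = 2 ^ 160 := by rw [← pow_add]

theorem pl_wk {u : ℕ} (hu : u < 2 ^ 160) : pl (wk u) = sAp 2 (pl u) := by
  have hb : bitB 2 0 = false ∧ bitB 2 1 = true := ⟨code_bits.2.2.2.2.1, code_bits.2.2.2.2.2.1⟩
  have h1 : u >>> 80 < 2 ^ 80 := by
    rw [Nat.shiftRight_eq_div_pow, Nat.div_lt_iff_lt_mul (Nat.two_pow_pos _), ← pow_add]
    exact hu
  simp only [pl, sAp, hb.1, hb.2, cond_true, cond_false, Nat.zero_xor]
  refine Prod.ext ?_ ?_
  · refine Nat.eq_of_testBit_eq fun i => ?_
    simp only [wk, Nat.testBit_mod_two_pow, Nat.testBit_or, Nat.testBit_shiftLeft]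
    by_cases hi : i < 80
    · simp [hi, Nat.not_le.2 hi]
    · simp only [hi, decide_false, Bool.false_and]
      exact (Nat.testBit_lt_two_pow (lt_of_lt_of_le h1 (Nat.pow_le_pow_right (by norm_num) (by omega)))).symm
  · refine Nat.eq_of_testBit_eq fun i => ?_
    simp only [wk, Nat.testBit_shiftRight, Nat.testBit_or, Nat.testBit_shiftLeft]
    have h2 : u.testBit (80 + (80 + i)) = false :=
      Nat.testBit_lt_two_pow (lt_of_lt_of_le hu (Nat.pow_le_pow_right (by norm_num) (by omega)))
    simp [h2, Nat.testBit_xor, Nat.testBit_shiftRight]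

theorem col_lt (j M : ℕ) : col j M < 2 ^ 160 := Nat.mod_lt _ (Nat.two_pow_pos _)

theorem testBit_col (j M i : ℕ) : (col j M).testBit i = (decide (i < 160) && M.testBit (160 * j + i)) := by
  rw [col, Nat.testBit_mod_two_pow, Nat.testBit_shiftRight]

theorem col_xor (j x y : ℕ) : col j (Nat.xor x y) = Nat.xor (col j x) (col j y) := by
  refine Nat.eq_of_testBit_eq fun i => ?_
  show (col j (x ^^^ y)).testBit i = (col j x ^^^ col j y).testBit i
  simp only [Nat.testBit_xor, testBit_col]
  cases decide (i < 160) <;> simp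

theorem mask_low (y t : ℕ) (b : ℕ) (hb : 1 ≤ b) :
    y &&& (1 + t * 2 ^ b) = y % 2 + 2 ^ b * ((y >>> b) &&& t) := by
  have h2 : 2 ≤ 2 ^ b := le_self_pow (by norm_num) (by omega)
  refine Nat.eq_of_testBit_eq fun i => ?_
  rw [Nat.testBit_and, mul_comm t, add_comm 1, add_comm (y % 2),
    Nat.testBit_two_pow_mul_add _ (show 1 < 2 ^ b by omega),
    Nat.testBit_two_pow_mul_add _ (show y % 2 < 2 ^ b by omega)]
  by_cases hi : i < b
  · rw [if_pos hi, if_pos hi]
    rcases i with _ | i
    · rcases Nat.mod_two_eq_zero_or_one y with h | h <;> simp [Nat.testBit_zero, h]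
    · rw [Nat.testBit_succ, Nat.testBit_succ, Nat.testBit_succ, show (1 : ℕ) / 2 = 0 from rfl, show y % 2 / 2 = 0 by omega]
      simp
  · rw [if_neg hi, if_neg hi, Nat.testBit_and, Nat.testBit_shiftRight, Nat.add_sub_cancel' (by omega)]

theorem block_maskMul {b c : ℕ} (hb : 1 ≤ b) (hc : c < 2 ^ b) : ∀ (n y j : ℕ), j < n →
    (((y &&& strideB b n) * c) >>> (b * j)) % 2 ^ b = bif y.testBit (b * j) then c else 0
  | 0, _, j, hj => absurd hj (Nat.not_lt_zero j)
  | n + 1, y, j, hj => by
    rw [strideB, mask_low y (strideB b n) b hb, add_mul, mul_assoc]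
    have hlow : y % 2 * c < 2 ^ b := by
      rcases Nat.mod_two_eq_zero_or_one y with h | h <;> rw [h]
      · rw [zero_mul]; exact Nat.two_pow_pos _
      · rwa [one_mul]
    rcases j with _ | j
    · rw [mul_zero, Nat.shiftRight_zero, Nat.add_mul_mod_self_left, Nat.mod_eq_of_lt hlow,
        Nat.testBit_zero]
      rcases Nat.mod_two_eq_zero_or_one y with h | h <;> simp [h]
    · have h := block_maskMul hb hc n (y >>> b) j (by omega)
      rw [Nat.testBit_shiftRight, show b + b * j = b * (j + 1) by ring] at h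
      rw [← h, show b * (j + 1) = b + b * j by ring, Nat.shiftRight_add, Nat.shiftRight_eq_div_pow _ b,
        Nat.add_mul_div_left _ _ (Nat.two_pow_pos _), Nat.div_eq_of_lt hlow, Nat.zero_add]

theorem col_maskMul {c : ℕ} (hc : c < 2 ^ 160) (n y j : ℕ) (hj : j < n) :
    col j ((y &&& strideN n) * c) = bif y.testBit (160 * j) then c else 0 :=
  block_maskMul (Nat.le_of_ble_eq_true rfl) hc n y j hj

variable {D : ChevalleyDatum} {K : Type*} [Field K] (w : K)

/-- A packed matrix stands for a matrix. -/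
def Rep (A : Matrix D.Idx D.Idx K) (M : ℕ) : Prop :=
  ∀ j, j < D.rank + D.nroots → A *ᵥ vec4 D w (2 ^ j, 0) = vec4 D w (pl (col j M))

variable {w} [CharP K 2]

theorem pl_xor (u v : ℕ) : pl (Nat.xor u v) = pxor (pl u) (pl v) := by
  refine Prod.ext (Nat.eq_of_testBit_eq fun i => ?_) (Nat.eq_of_testBit_eq fun i => ?_)
  · show ((u ^^^ v) % 2 ^ 80).testBit i = (u % 2 ^ 80 ^^^ v % 2 ^ 80).testBit i
    simp only [Nat.testBit_xor, Nat.testBit_mod_two_pow]
    cases decide (i < 80) <;> simp
  · show ((u ^^^ v) >>> 80).testBit i = (u >>> 80 ^^^ v >>> 80).testBit i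
    simp [Nat.testBit_xor, Nat.testBit_shiftRight]

theorem Rep.ext {A B : Matrix D.Idx D.Idx K} {M : ℕ} (hA : Rep w A M) (hB : Rep w B M) : A = B :=
  ext_of_units4 fun i hi => (hA i hi).trans (hB i hi).symm

theorem Rep.mul (hw : w ^ 2 = w + 1) (hn : D.rank + D.nroots = 78) {A B : Matrix D.Idx D.Idx K}
    {MA MB : ℕ} (hA : Rep w A MA) (hB : Rep w B MB) :
    Rep w (A * B) (mulAux (strideN 78) MA MB 78) := by
  intro j hj
  have key : ∀ n, n ≤ 78 → vec4 D w (pl (col j (mulAux (strideN 78) MA MB n))) =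
      ∑ k ∈ Finset.range n, val w (codeAt (pl (col j MB)) k) • vec4 D w (pl (col k MA)) := by
    intro n
    induction n with
    | zero => intro; simp [mulAux, col, pl, vec4_zero]
    | succ n ih =>
      intro hn'
      rw [mulAux, col_xor, pl_xor, vec4_pxor, ih (by omega), Finset.sum_range_succ]
      rw [add_comm]
      congr 1
      rw [mulT, col_xor, col_maskMul (col_lt _ _) 78 _ j (by omega),
        col_maskMul (wk_lt _ (col_lt _ _)) 78 _ j (by omega)]
      have e1 : (MB >>> n).testBit (160 * j) = bitB (pl (col j MB)).1 n := by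
        simp only [bitB_eq, pl, Nat.testBit_mod_two_pow, testBit_col, Nat.testBit_shiftRight,
          show n < 80 by omega, show n < 160 by omega, decide_true, Bool.true_and, add_comm]
      have e2 : (MB >>> (80 + n)).testBit (160 * j) = bitB (pl (col j MB)).2 n := by
        simp only [bitB_eq, pl, testBit_col, Nat.testBit_shiftRight]
        rw [decide_eq_true (show 80 + n < 160 by omega), Bool.true_and, add_comm (80 + n)]
      have hbif : ∀ (b : Bool) (c : ℕ), vec4 D w (pl (bif b then c else 0)) =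
          (if b then (1 : K) else 0) • vec4 D w (pl c) := by
        intro b c; cases b <;> simp [pl, vec4_zero]
      rw [e1, e2, pl_xor, vec4_pxor, hbif, hbif, pl_wk (col_lt _ _), vec4_sAp hw, val_two, codeAt, val_toC,
        add_smul, smul_smul, ite_mul, one_mul, zero_mul]
  rw [← Matrix.mulVec_mulVec, hB j hj, key 78 le_rfl, mulVec_eq_sum]
  rw [← Equiv.sum_comp (idxEquiv D).symm, ← Fin.sum_univ_eq_sum_range (fun k => val w (codeAt (pl (col j MB)) k) •
    vec4 D w (pl (col k MA)))]
  refine (Equiv.sum_comp (finCongr hn.symm) fun q : Fin (D.rank + D.nroots) =>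
    vec4 D w (pl (col j MB)) ((idxEquiv D).symm q) • (A *ᵥ Pi.single ((idxEquiv D).symm q) 1)).symm.trans ?_
  refine Finset.sum_congr rfl fun k _ => ?_
  rw [← vec4_unit (w := w), Equiv.apply_symm_apply, hA _ (Fin.isLt _), vec4_apply, Equiv.apply_symm_apply]
  simp

end Cfsg.Agent.Small.E6Fi22
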